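import Cfsg.Agent.H38.K547.Tool
import Cfsg.Agent.H769.RowCo3
import Cfsg.Agent.H769.K4.CoThree
import Cfsg.Agent.S2071

/-!
# S4547: the row of `Co3` (helper451, task 5053)

The centralizer `2.Sp₆(2)` of a 2-central involution has odd index and maps onto `Sp₆(2)`; the Borel subgroup of `Sp₆(2)`
maps onto the product of the three simple root groups; `Out Co3 = 1`.
-/

set_option autoImplicit false

namespace Cfsg.Agent.H451.K547.Co3

open Cfsg Cfsg.Agent.H821.K547 Cfsg.Agent.H38.K547 Cfsg.Agent.H769.SpSix Subgroup Matrix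

universe u

theorem col_zero {h : Sp} (hh : h ∈ B) (i : Fin 3 ⊕ Fin 3) :
    mt h i (Sum.inl 0) = (Pi.single (Sum.inl 0) 1 : V) i := by
  have h1 : (Pi.single (Sum.inl 0) 1 : V) ∈ Fl 0 := by decide +kernel
  have h2 := congrFun (unip_zero hh h1) i
  rwa [Matrix.mulVec_single_one] at h2

theorem col_one {h : Sp} (hh : h ∈ B) :
    mt h (Sum.inl 1) (Sum.inl 1) = 1 ∧ mt h (Sum.inl 2) (Sum.inl 1) = 0 ∧ ∀ i, mt h (Sum.inr i) (Sum.inl 1) = 0 := by
  have h1 : (Pi.single (Sum.inl 1) 1 : V) ∈ Fl (0 + 1) := by decide +kernel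
  have h2 := unip hh (by norm_num) h1
  rw [Matrix.mulVec_single_one] at h2
  refine ⟨?_, ?_, fun i => ?_⟩
  · have := h2.1 1 (by decide)
    simpa [sub_eq_zero] using this
  · have := h2.1 2 (by decide)
    simpa [sub_eq_zero] using this
  · have := h2.2 i
    simpa [sub_eq_zero] using this

theorem col_two {h : Sp} (hh : h ∈ B) :
    mt h (Sum.inl 2) (Sum.inl 2) = 1 ∧ ∀ i, mt h (Sum.inr i) (Sum.inl 2) = 0 := by
  have h1 : (Pi.single (Sum.inl 2) 1 : V) ∈ Fl (1 + 1) := by decide +kernel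
  have h2 := unip hh (by norm_num) h1
  rw [Matrix.mulVec_single_one] at h2
  refine ⟨?_, fun i => ?_⟩
  · have := h2.1 2 (by decide)
    simpa [sub_eq_zero] using this
  · have := h2.2 i
    simpa [sub_eq_zero] using this

theorem sym_entry (h : Sp) (i : Fin 3) :
    ∑ k : Fin 3, mt h (Sum.inr k) (Sum.inl i) * mt h (Sum.inl k) (Sum.inr 2) +
      ∑ k : Fin 3, mt h (Sum.inl k) (Sum.inl i) * mt h (Sum.inr k) (Sum.inr 2) = if i = 2 then 1 else 0 := by
  have h1 : (mt h)ᵀ * Matrix.J (Fin 3) (ZMod 2) * mt h = Matrix.J (Fin 3) (ZMod 2) :=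
    SymplecticGroup.mem_iff'.1 h.2
  have h2 := congrFun (congrFun h1 (Sum.inl i)) (Sum.inr 2)
  fin_cases i <;>
  · simp [Matrix.mul_apply, Fintype.sum_sum_type, Fin.sum_univ_three, Matrix.J, Matrix.one_apply] at h2 ⊢
    exact h2

/-- the last column -/
theorem col_last {h : Sp} (hh : h ∈ B) :
    mt h (Sum.inr 0) (Sum.inr 2) = 0 ∧ mt h (Sum.inr 1) (Sum.inr 2) = 0 ∧ mt h (Sum.inr 2) (Sum.inr 2) = 1 := by
  have h0 := sym_entry h 0
  have h1 := sym_entry h 1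
  have h2 := sym_entry h 2
  have c0 := col_zero hh
  obtain ⟨c11, c21, c1⟩ := col_one hh
  obtain ⟨c22, c2⟩ := col_two hh
  simp only [Fin.sum_univ_three, c0, c11, c21, c1, c22, c2] at h0 h1 h2
  simp at h0 h1 h2
  rw [h0] at h1 h2
  simp at h1 h2
  rw [h1] at h2
  simp at h2
  refine ⟨h0, h1, ?_⟩
  rw [h2]

/-- the three homomorphisms -/
def fB : B →* Multiplicative (Fin 3 → ZMod 2) where
  toFun h := Multiplicative.ofAdd ![mt h.1 (Sum.inl 0) (Sum.inl 1), mt h.1 (Sum.inl 1) (Sum.inl 2),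
    mt h.1 (Sum.inl 2) (Sum.inr 2)]
  map_one' := by
    apply Multiplicative.toAdd.injective
    show ![(1 : Matrix (Fin 3 ⊕ Fin 3) (Fin 3 ⊕ Fin 3) (ZMod 2)) (Sum.inl 0) (Sum.inl 1), (1 : Matrix _ _ _) (Sum.inl 1) (Sum.inl 2),
      (1 : Matrix _ _ _) (Sum.inl 2) (Sum.inr 2)] = 0
    decide +kernel
  map_mul' := by
    rintro ⟨g, hg⟩ ⟨h, hh⟩
    apply Multiplicative.toAdd.injective
    obtain ⟨g11, g21, g1⟩ := col_one hg
    obtain ⟨g22, g2⟩ := col_two hg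
    obtain ⟨h11, h21, h1⟩ := col_one hh
    obtain ⟨h22, h2⟩ := col_two hh
    obtain ⟨l0, l1, l2⟩ := col_last hh
    have g0 := col_zero hg
    show ![mt (g * h) (Sum.inl 0) (Sum.inl 1), mt (g * h) (Sum.inl 1) (Sum.inl 2),
      mt (g * h) (Sum.inl 2) (Sum.inr 2)] =
      ![mt g (Sum.inl 0) (Sum.inl 1), mt g (Sum.inl 1) (Sum.inl 2), mt g (Sum.inl 2) (Sum.inr 2)] +
      ![mt h (Sum.inl 0) (Sum.inl 1), mt h (Sum.inl 1) (Sum.inl 2), mt h (Sum.inl 2) (Sum.inr 2)]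
    have e1 : mt (g * h) (Sum.inl 0) (Sum.inl 1) = mt g (Sum.inl 0) (Sum.inl 1) + mt h (Sum.inl 0) (Sum.inl 1) := by
      rw [mt_mul, Matrix.mul_apply, Fintype.sum_sum_type, Fin.sum_univ_three, Fin.sum_univ_three, g0, h11, h21, h1, h1, h1]
      simp
      ring
    have e2 : mt (g * h) (Sum.inl 1) (Sum.inl 2) = mt g (Sum.inl 1) (Sum.inl 2) + mt h (Sum.inl 1) (Sum.inl 2) := by
      rw [mt_mul, Matrix.mul_apply, Fintype.sum_sum_type, Fin.sum_univ_three, Fin.sum_univ_three, g0, g11, h22, h2, h2, h2]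
      simp
      ring
    have e3 : mt (g * h) (Sum.inl 2) (Sum.inr 2) = mt g (Sum.inl 2) (Sum.inr 2) + mt h (Sum.inl 2) (Sum.inr 2) := by
      rw [mt_mul, Matrix.mul_apply, Fintype.sum_sum_type, Fin.sum_univ_three, Fin.sum_univ_three, g0, g21, g22, l0, l1, l2]
      simp
      ring
    rw [e1, e2, e3]
    funext i
    fin_cases i <;> rfl

theorem fB_s (j : Fin 3) : fB ⟨⟨s j, s_mem j⟩, s_B j⟩ = Multiplicative.ofAdd (Pi.single j 1 : Fin 3 → ZMod 2) := by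
  apply Multiplicative.toAdd.injective
  show ![s j (Sum.inl 0) (Sum.inl 1), s j (Sum.inl 1) (Sum.inl 2), s j (Sum.inl 2) (Sum.inr 2)] = Pi.single j 1
  revert j
  decide +kernel

theorem fB_surj : Function.Surjective fB := by
  intro y
  refine ⟨⟨⟨s 0, s_mem 0⟩, s_B 0⟩ ^ (Multiplicative.toAdd y 0).val * ⟨⟨s 1, s_mem 1⟩, s_B 1⟩ ^ (Multiplicative.toAdd y 1).val *
    ⟨⟨s 2, s_mem 2⟩, s_B 2⟩ ^ (Multiplicative.toAdd y 2).val, ?_⟩
  rw [map_mul, map_mul, map_pow, map_pow, map_pow, fB_s, fB_s, fB_s]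
  apply Multiplicative.toAdd.injective
  have key : ∀ z : Fin 3 → ZMod 2, (z 0).val • (Pi.single 0 1 : Fin 3 → ZMod 2) + (z 1).val • (Pi.single 1 1 : Fin 3 → ZMod 2) +
      (z 2).val • (Pi.single 2 1 : Fin 3 → ZMod 2) = z := by decide +kernel
  exact key (Multiplicative.toAdd y)

theorem finite_Sp : Finite Sp := Nat.finite_of_card_ne_zero (by rw [card_Sp]; norm_num)

/-- the Sylow 2-subgroups of `Sp₆(2)` need three generators -/
theorem d3_sp6 : D3 Sp := by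
  have := finite_Sp
  refine d3_of_card B (IsPGroup.of_card (n := 9) (by rw [card_B]; norm_num)) ?_ ⟨fB, fB_surj⟩
  have h := B.card_mul_index
  rw [card_B, card_Sp] at h
  omega

open Cfsg.Agent.SporRec.Co3.Chain (G3 isCo3_G3)
open Cfsg.Agent.SporRec.Co3.Ident (Z)

theorem d3_G3 : D3 G3 := by
  have := Cfsg.Agent.KFacts.Co3.Syl.finite_G3
  obtain ⟨π, N⟩ := Cfsg.Agent.KFacts.Co3D4.exists_NS_G3
  refine d3_of_map (centralizer ({Z} : Set G3)) ?_ π N.surj d3_sp6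
  have h := (centralizer ({Z} : Set G3)).card_mul_index
  rw [Cfsg.Agent.KFacts.Co3.Syl.card_Z, isCo3_G3.2] at h
  omega

/-- **The row of `Co3`.** -/
theorem row {S : Type u} [Group S] (h : Spor.IsoCo3 S) : Row S := by
  obtain ⟨e⟩ := h
  have hf : Finite G3 := Cfsg.Agent.KFacts.Co3.Syl.finite_G3
  have e' : S ≃* G3 := e.trans Cfsg.Agent.SporRec.Co3.Model.equivCo3.symm
  have hS : Finite S := Finite.of_equiv _ e'.symm.toEquiv
  exact row_of_out e Cfsg.Agent.S2071.result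
    (Or.inl ⟨Cfsg.Agent.H769.K4.CoThree.good5_co3 ⟨e⟩, d3_congr e' d3_G3⟩)

end Cfsg.Agent.H451.K547.Co3
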